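import Groth.Prelude.Def_Coh
import Groth.Agent.QCoh.Sections
import Mathlib.AlgebraicGeometry.Modules.Sheaf
import Mathlib.Topology.Sheaves.SheafCondition.Sites

/-!
Morphisms of modules given on affine opens.
-/

universe u

open CategoryTheory CategoryTheory.Limits AlgebraicGeometry TopologicalSpace Opposite

noncomputable section

namespace Groth.Agent.ProjDualR.HomAffine

variable {X : Scheme.{u}} {M N : X.Modules}

/-- The affine opens as a basis family. -/
abbrev B (X : Scheme.{u}) : X.affineOpens → Opens X := fun U => U.1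

theorem basis (X : Scheme.{u}) : Opens.IsBasis (Set.range (B X)) := by
  have := X.isBasis_affineOpens
  convert! this using 1
  ext V
  exact ⟨fun ⟨U, hU⟩ => hU ▸ U.2, fun hV => ⟨⟨V, hV⟩, rfl⟩⟩

theorem hom_ext (f g : M ⟶ N) (h : ∀ U : X.affineOpens, f.app U.1 = g.app U.1) : f = g := by
  have h' : f.mapPresheaf = g.mapPresheaf :=
    TopCat.Sheaf.hom_ext (M.presheaf) (⟨N.presheaf, N.isSheaf⟩ : TopCat.Sheaf AddCommGrpCat.{u} X) (basis X)
      fun i => h i
  exact Scheme.Modules.hom_ext f g fun U => congr_app h' (op U)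

theorem exists_of_affine (φ : ∀ U : X.affineOpens, Γ(M, U.1) →ₗ[Γ(X, U.1)] Γ(N, U.1))
    (hres : ∀ (U V : X.affineOpens) (h : V.1 ≤ U.1) (x : Γ(M, U.1)),
      N.presheaf.map (homOfLE h).op (φ U x) = φ V (M.presheaf.map (homOfLE h).op x)) :
    ∃ f : M ⟶ N, ∀ (U : X.affineOpens) (x : Γ(M, U.1)), f.app U.1 x = φ U x := by
  let N' : TopCat.Sheaf AddCommGrpCat.{u} X := ⟨N.presheaf, N.isSheaf⟩
  let α : (inducedFunctor (B X)).op ⋙ M.presheaf ⟶ (inducedFunctor (B X)).op ⋙ N'.1 :=
    { app := fun U => AddCommGrpCat.ofHom (φ U.unop).toAddMonoidHom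
      naturality := fun U V i => by
        refine AddCommGrpCat.ext fun x => ?_
        exact (hres U.unop V.unop (leOfHom i.unop.hom) x).symm }
  let β : M.presheaf ⟶ N.presheaf := TopCat.Sheaf.restrictHomEquivHom M.presheaf N' (basis X) α
  have hβ : ∀ (U : X.affineOpens) (x : Γ(M, U.1)), β.app (op U.1) x = φ U x := fun U x => by
    have h := TopCat.Sheaf.extend_hom_app M.presheaf N' (basis X) α U
    exact congrArg (fun g => (ConcreteCategory.hom g) x) h
  have hlin : ∀ (W : X.Opens) (r : Γ(X, W)) (m : Γ(M, W)),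
      β.app (op W) (r • m) = r • (β.app (op W) m : Γ(N, W)) := by
    intro W r m
    rw [← sub_eq_zero]
    refine QCoh.eq_zero_of_locally (M := N) W _ fun p hp => ?_
    obtain ⟨V, hV, hpV, hVW0⟩ := exists_isAffineOpen_mem_and_subset (x := p) (U := W) hp
    have hVW : V ≤ W := hVW0
    refine ⟨V, homOfLE hVW, hpV, ?_⟩
    rw [map_sub, sub_eq_zero]
    have nat : ∀ y : Γ(M, W), N.presheaf.map (homOfLE hVW).op (β.app (op W) y) =
        φ ⟨V, hV⟩ (M.presheaf.map (homOfLE hVW).op y) := fun y => by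
      refine Eq.trans ?_ (hβ ⟨V, hV⟩ _)
      exact (ConcreteCategory.congr_hom (β.naturality (homOfLE hVW : V ⟶ W).op) y).symm
    rw [nat, Scheme.Modules.map_smul, map_smul, Scheme.Modules.map_smul, nat]
  exact ⟨⟨PresheafOfModules.homMk β fun W r m => hlin W.unop r m⟩, hβ⟩

theorem existsUnique_of_affine (φ : ∀ U : X.affineOpens, Γ(M, U.1) →ₗ[Γ(X, U.1)] Γ(N, U.1))
    (hres : ∀ (U V : X.affineOpens) (h : V.1 ≤ U.1) (x : Γ(M, U.1)),
      N.presheaf.map (homOfLE h).op (φ U x) = φ V (M.presheaf.map (homOfLE h).op x)) :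
    ∃! f : M ⟶ N, ∀ (U : X.affineOpens) (x : Γ(M, U.1)), f.app U.1 x = φ U x := by
  obtain ⟨f, hf⟩ := exists_of_affine φ hres
  refine ⟨f, hf, fun g hg => hom_ext g f fun U => ?_⟩
  refine AddCommGrpCat.ext fun x => ?_
  rw [hg U x, hf U x]

end Groth.Agent.ProjDualR.HomAffine
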