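import Mathlib.LinearAlgebra.CliffordAlgebra.Contraction
import Mathlib.LinearAlgebra.ExteriorPower.Basic
import Mathlib.RingTheory.Regular.RegularSequence
import Mathlib.LinearAlgebra.Basis.Basic

/-!
The Koszul complex of a weakly regular sequence, in exterior algebra form, is exact in positive degrees.
-/

universe u v

noncomputable section

namespace Groth.Agent.ProjDualR.KoszulExact

open ExteriorAlgebra

variable {R : Type u} [CommRing R] {M : Type v} [AddCommGroup M] [Module R M]

/-- Contraction on the exterior algebra. -/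
abbrev ct (d : Module.Dual R M) : ExteriorAlgebra R M →ₗ[R] ExteriorAlgebra R M :=
  CliffordAlgebra.contractLeft d

theorem ct_ι_mul (d : Module.Dual R M) (m : M) (z : ExteriorAlgebra R M) :
    ct d (ι R m * z) = d m • z - ι R m * ct d z :=
  CliffordAlgebra.contractLeft_ι_mul d m z

theorem ct_ct (d : Module.Dual R M) (z : ExteriorAlgebra R M) : ct d (ct d z) = 0 :=
  CliffordAlgebra.contractLeft_contractLeft d z

theorem ct_comm (d d' : Module.Dual R M) (z : ExteriorAlgebra R M) : ct d (ct d' z) = -ct d' (ct d z) :=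
  CliffordAlgebra.contractLeft_comm d d' z

theorem ct_algebraMap (d : Module.Dual R M) (r : R) : ct d (algebraMap R _ r) = 0 :=
  CliffordAlgebra.contractLeft_algebraMap _ d r

theorem ct_ι (d : Module.Dual R M) (m : M) : ct d (ι R m) = algebraMap R _ (d m) :=
  CliffordAlgebra.contractLeft_ι _ d m

theorem ι_mul_mem {q : ℕ} (m : M) {z : ExteriorAlgebra R M} (hz : z ∈ (⋀[R]^q M)) :
    ι R m * z ∈ (⋀[R]^(q + 1) M) := by
  show _ ∈ LinearMap.range (ι R : M →ₗ[R] ExteriorAlgebra R M) ^ (q + 1)
  rw [pow_succ']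
  exact Submodule.mul_mem_mul ⟨m, rfl⟩ hz

theorem exists_eq_algebraMap {z : ExteriorAlgebra R M} (hz : z ∈ (⋀[R]^0 M)) :
    ∃ r : R, algebraMap R _ r = z := by
  change z ∈ LinearMap.range (ι R : M →ₗ[R] ExteriorAlgebra R M) ^ 0 at hz
  rw [pow_zero] at hz
  exact Submodule.mem_one.1 hz

theorem algebraMap_mem (r : R) : algebraMap R (ExteriorAlgebra R M) r ∈ (⋀[R]^0 M) := by
  show _ ∈ LinearMap.range (ι R : M →ₗ[R] ExteriorAlgebra R M) ^ 0
  rw [pow_zero]
  exact Submodule.mem_one.2 ⟨r, rfl⟩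

/-- Contraction lowers the degree. -/
theorem ct_mem (d : Module.Dual R M) : ∀ (q : ℕ) {z : ExteriorAlgebra R M}, z ∈ (⋀[R]^(q + 1) M) →
    ct d z ∈ (⋀[R]^q M)
  | 0, z, hz => by
    change z ∈ LinearMap.range (ι R : M →ₗ[R] ExteriorAlgebra R M) ^ 1 at hz
    rw [pow_one] at hz
    obtain ⟨m, rfl⟩ := hz
    rw [ct_ι]
    exact algebraMap_mem _
  | q + 1, z, hz => by
    change z ∈ LinearMap.range (ι R : M →ₗ[R] ExteriorAlgebra R M) ^ (q + 2) at hz
    rw [pow_succ'] at hz
    induction hz using Submodule.mul_induction_on' with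
    | mem_mul_mem a ha b hb =>
      obtain ⟨m, rfl⟩ := ha
      rw [ct_ι_mul]
      exact sub_mem (Submodule.smul_mem _ _ hb) (ι_mul_mem m (ct_mem d q hb))
    | add a _ b _ ha hb => rw [map_add]; exact add_mem ha hb

variable {n : ℕ} (b : Module.Basis (Fin n) R M)

/-- The projection killing multiples of the `i`-th basis vector. -/
def proj (i : Fin n) : ExteriorAlgebra R M →ₗ[R] ExteriorAlgebra R M :=
  LinearMap.id - (LinearMap.mulLeft R (ι R (b i))) ∘ₗ ct (b.coord i)

theorem proj_apply (i : Fin n) (z : ExteriorAlgebra R M) :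
    proj b i z = z - ι R (b i) * ct (b.coord i) z := rfl

theorem proj_ι_mul (i j : Fin n) (z : ExteriorAlgebra R M) :
    proj b i (ι R (b j) * z) = if i = j then 0 else ι R (b j) * proj b i z := by
  rw [proj_apply, proj_apply, ct_ι_mul, Module.Basis.coord_apply, Module.Basis.repr_self]
  by_cases h : i = j
  · subst h
    rw [if_pos rfl, Finsupp.single_eq_same, one_smul, mul_sub, ← mul_assoc, ι_sq_zero, zero_mul, sub_zero, sub_self]
  · rw [if_neg h, Finsupp.single_eq_of_ne h, zero_smul, zero_sub, mul_neg, sub_neg_eq_add, mul_sub, ← mul_assoc,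
      ← mul_assoc, show ι R (b i) * ι R (b j) = -(ι R (b j) * ι R (b i)) from
        eq_neg_of_add_eq_zero_left (ι_add_mul_swap _ _), neg_mul, ← sub_eq_add_neg]

/-- Positive degree elements killed by every coordinate contraction vanish. -/
theorem eq_zero_of_ct {q : ℕ} {z : ExteriorAlgebra R M} (hz : z ∈ (⋀[R]^(q + 1) M))
    (h : ∀ i, ct (b.coord i) z = 0) : z = 0 := by
  have hfix : ∀ l : List (Fin n), l.foldr (fun i w => proj b i w) z = z := fun l => by
    induction l with
    | nil => rfl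
    | cons i l ih => rw [List.foldr_cons, ih, proj_apply, h, mul_zero, sub_zero]
  rw [← hfix (List.finRange n)]
  let L : List (Fin n) → (ExteriorAlgebra R M →ₗ[R] ExteriorAlgebra R M) :=
    fun l => l.foldr (fun i f => proj b i ∘ₗ f) LinearMap.id
  have hL : ∀ l w, l.foldr (fun i w => proj b i w) w = L l w := fun l w => by
    induction l with
    | nil => rfl
    | cons i l ih => rw [List.foldr_cons, ih]; rfl
  rw [hL]
  have hgen : ∀ (j : Fin n) (w : ExteriorAlgebra R M) (l : List (Fin n)),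
      (j ∈ l → L l (ι R (b j) * w) = 0) ∧ ∃ w', L l (ι R (b j) * w) = ι R (b j) * w' := by
    intro j w l
    induction l with
    | nil => exact ⟨fun h => absurd h (List.not_mem_nil), w, rfl⟩
    | cons i l ih =>
      obtain ⟨ih0, w', hw'⟩ := ih
      have e : L (i :: l) (ι R (b j) * w) = proj b i (L l (ι R (b j) * w)) := rfl
      refine ⟨fun hmem => ?_, ?_⟩
      · rcases List.mem_cons.1 hmem with rfl | hl
        · rw [e, hw', proj_ι_mul, if_pos rfl]
        · rw [e, ih0 hl, map_zero]
      · rw [e, hw', proj_ι_mul]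
        by_cases hij : i = j
        · exact ⟨0, by rw [if_pos hij, mul_zero]⟩
        · exact ⟨proj b i w', if_neg hij⟩
  change z ∈ LinearMap.range (ι R : M →ₗ[R] ExteriorAlgebra R M) ^ (q + 1) at hz
  rw [pow_succ'] at hz
  clear hfix h
  induction hz using Submodule.mul_induction_on' with
  | mem_mul_mem a ha w _ =>
    obtain ⟨m, rfl⟩ := ha
    rw [← b.sum_repr m, map_sum, Finset.sum_mul, map_sum]
    refine Finset.sum_eq_zero fun j _ => ?_
    rw [map_smul, smul_mul_assoc, map_smul, (hgen j w _).1 (List.mem_finRange j), smul_zero]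
  | add a _ c _ ha hc => rw [map_add, ha, hc, add_zero]

variable (φ : Module.Dual R M)

/-- The elements involving only the first `j` basis vectors. -/
def Low (j : ℕ) (z : ExteriorAlgebra R M) : Prop := ∀ i : Fin n, j ≤ (i : ℕ) → ct (b.coord i) z = 0

theorem ct_ι_mul_coord (i j : Fin n) (h : i ≠ j) (z : ExteriorAlgebra R M) :
    ct (b.coord i) (ι R (b j) * z) = -(ι R (b j) * ct (b.coord i) z) := by
  rw [ct_ι_mul, Module.Basis.coord_apply, Module.Basis.repr_self, Finsupp.single_eq_of_ne h, zero_smul, zero_sub]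

/-- Exactness in positive degrees, by induction on the number of basis vectors involved. -/
theorem exact_aux (hreg : ∀ (j : Fin n) (r : R), φ (b j) * r ∈ Ideal.span {x | ∃ i : Fin n, (i : ℕ) < j ∧ φ (b i) = x} →
      r ∈ Ideal.span {x | ∃ i : Fin n, (i : ℕ) < j ∧ φ (b i) = x}) :
    ∀ (j : ℕ), j ≤ n → ∀ (q : ℕ) (z : ExteriorAlgebra R M), z ∈ (⋀[R]^(q + 1) M) → Low b j z → ct φ z = 0 →
      ∃ w, w ∈ (⋀[R]^(q + 2) M) ∧ Low b j w ∧ ct φ w = z
  | 0, _, q, z, hz, hlow, _ => by
    refine ⟨0, zero_mem _, fun i _ => map_zero _, ?_⟩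
    rw [map_zero, eq_zero_of_ct b hz fun i => hlow i (Nat.zero_le _)]
  | j + 1, hj, q, z, hz, hlow, hdz => by
    let J : Fin n := ⟨j, hj⟩
    have IH := exact_aux hreg j (Nat.le_of_succ_le hj)
    let y := ct (b.coord J) z
    have hy : y ∈ (⋀[R]^q M) := ct_mem _ q hz
    have hylow : Low b j y := fun i hi => by
      rcases hi.eq_or_lt with h | h
      · rw [show i = J from Fin.ext h.symm]; exact ct_ct _ _
      · rw [ct_comm, hlow i h, map_zero, neg_zero]
    have hdy : ct φ y = 0 := by rw [ct_comm, hdz, map_zero, neg_zero]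
    let x := z - ι R (b J) * y
    have hxlow : Low b j x := fun i hi => by
      by_cases h : i = J
      · rw [h, map_sub, ct_ι_mul, Module.Basis.coord_apply, Module.Basis.repr_self, Finsupp.single_eq_same,
          one_smul, hylow J le_rfl, mul_zero, sub_zero, sub_self]
      · rw [map_sub, ct_ι_mul_coord b i J h, hylow i hi, mul_zero, neg_zero, sub_zero]
        exact hlow i (lt_of_le_of_ne hi fun e => h (Fin.ext e.symm))
    have hdx : ct φ x = -(φ (b J) • y) := by
      rw [map_sub, hdz, ct_ι_mul, hdy, mul_zero, sub_zero, zero_sub]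
    -- a lift of `y`
    obtain ⟨v, hv, hvlow, hdv⟩ : ∃ v, v ∈ (⋀[R]^(q + 1) M) ∧ Low b j v ∧ ct φ v = y := by
      rcases q with _ | q
      · obtain ⟨y0, hy0⟩ := exists_eq_algebraMap hy
        have hx1 : x ∈ (⋀[R]^1 M) := sub_mem hz (ι_mul_mem _ hy)
        change x ∈ LinearMap.range (ι R : M →ₗ[R] ExteriorAlgebra R M) ^ 1 at hx1
        rw [pow_one] at hx1
        obtain ⟨m, hm⟩ := hx1
        have hmi : ∀ i : Fin n, j ≤ (i : ℕ) → b.repr m i = 0 := fun i hi => by
          have := hxlow i hi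
          rw [← hm, ct_ι, algebraMap_eq_zero_iff] at this
          exact this
        have hφm : φ m ∈ Ideal.span {x | ∃ i : Fin n, (i : ℕ) < j ∧ φ (b i) = x} := by
          rw [← b.sum_repr m, map_sum]
          refine sum_mem fun i _ => ?_
          rw [map_smul, smul_eq_mul]
          by_cases hi : (i : ℕ) < j
          · exact Ideal.mul_mem_left _ _ (Ideal.subset_span ⟨i, hi, rfl⟩)
          · rw [hmi i (not_lt.1 hi), zero_mul]; exact zero_mem _
        have hmem := hreg J y0 (by
          rw [← hm, ct_ι, ← hy0, Algebra.smul_def, ← map_mul, ← map_neg, algebraMap_inj] at hdx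
          rw [← neg_mem_iff, ← hdx]
          exact hφm)
        let S : Submodule R M := Submodule.span R {w | ∃ i : Fin n, (i : ℕ) < j ∧ b i = w}
        have hS : Ideal.span {x | ∃ i : Fin n, (i : ℕ) < j ∧ φ (b i) = x} ≤ S.map φ := by
          rw [Ideal.span_le]
          rintro _ ⟨i, hi, rfl⟩
          exact ⟨b i, Submodule.subset_span ⟨i, hi, rfl⟩, rfl⟩
        obtain ⟨w, hw, hwy⟩ := hS hmem
        refine ⟨ι R w, ?_, fun i hi => ?_, by rw [ct_ι, hwy, hy0]⟩
        · show _ ∈ LinearMap.range (ι R : M →ₗ[R] ExteriorAlgebra R M) ^ 1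
          rw [pow_one]; exact ⟨w, rfl⟩
        · rw [ct_ι]
          have : S ≤ LinearMap.ker (b.coord i) := by
            rw [Submodule.span_le]
            rintro _ ⟨i', hi', rfl⟩
            simp only [SetLike.mem_coe, LinearMap.mem_ker, Module.Basis.coord_apply, Module.Basis.repr_self]
            exact Finsupp.single_eq_of_ne (fun e => by subst e; omega)
          rw [LinearMap.mem_ker.1 (this hw), map_zero]
      · exact IH q y hy hylow hdy
    -- the rest
    have hx' : ct φ (x + φ (b J) • v) = 0 := by rw [map_add, map_smul, hdx, hdv, neg_add_cancel]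
    have hxv : x + φ (b J) • v ∈ (⋀[R]^(q + 1) M) :=
      add_mem (sub_mem hz (ι_mul_mem _ hy)) (Submodule.smul_mem _ _ hv)
    obtain ⟨u, hu, hulow, hdu⟩ := IH q _ hxv
      (fun i hi => by rw [map_add, map_smul, hxlow i hi, hvlow i hi, smul_zero, add_zero]) hx'
    refine ⟨u - ι R (b J) * v, sub_mem hu (ι_mul_mem _ hv), fun i hi => ?_, ?_⟩
    · have hne : i ≠ J := fun e => by subst e; simp only [J] at hi; omega
      rw [map_sub, ct_ι_mul_coord b i J hne, hvlow i (by omega), mul_zero, neg_zero, sub_zero, hulow i (by omega)]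
    · rw [map_sub, hdu, ct_ι_mul, hdv]
      simp only [x]
      abel

theorem mem_ideal_of_isWeaklyRegular (h : RingTheory.Sequence.IsWeaklyRegular R (List.ofFn fun i => φ (b i)))
    (j : Fin n) (r : R) (hr : φ (b j) * r ∈ Ideal.span {x | ∃ i : Fin n, (i : ℕ) < j ∧ φ (b i) = x}) :
    r ∈ Ideal.span {x | ∃ i : Fin n, (i : ℕ) < j ∧ φ (b i) = x} := by
  have hI : Ideal.ofList ((List.ofFn fun i => φ (b i)).take (j : ℕ)) • (⊤ : Submodule R R) =
      Ideal.span {x | ∃ i : Fin n, (i : ℕ) < j ∧ φ (b i) = x} := by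
    rw [Ideal.smul_top_eq_map, Algebra.algebraMap_self, Ideal.map_id]
    show Ideal.span _ = _
    congr 1
    ext x
    simp only [Set.mem_setOf_eq, List.mem_take_iff_getElem, List.getElem_ofFn, List.length_ofFn]
    constructor
    · rintro ⟨i, hi, rfl⟩
      exact ⟨⟨i, by omega⟩, by simp only; omega, rfl⟩
    · rintro ⟨i, hi, rfl⟩
      exact ⟨i, by omega, rfl⟩
  have hj := h.regular_mod_prev j (by rw [List.length_ofFn]; exact j.2)
  rw [List.getElem_ofFn] at hj
  have h0 : Submodule.Quotient.mk (p := Ideal.ofList ((List.ofFn fun i => φ (b i)).take (j : ℕ)) • (⊤ : Submodule R R)) r = 0 := by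
    apply hj
    show φ (b j) • _ = φ (b j) • (0 : _)
    rw [smul_zero, ← Submodule.Quotient.mk_smul, Submodule.Quotient.mk_eq_zero, hI]
    exact hr
  rw [Submodule.Quotient.mk_eq_zero, hI] at h0
  exact h0

/-- Exactness in positive degrees of the contraction by a form with weakly regular values on a basis. -/
theorem exact_of_isWeaklyRegular (h : RingTheory.Sequence.IsWeaklyRegular R (List.ofFn fun i => φ (b i)))
    (q : ℕ) (z : ↥(⋀[R]^(q + 1) M)) (hz : ct φ (z : ExteriorAlgebra R M) = 0) :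
    ∃ w : ↥(⋀[R]^(q + 2) M), ct φ (w : ExteriorAlgebra R M) = z := by
  obtain ⟨w, hw, -, hdw⟩ := exact_aux b φ (mem_ideal_of_isWeaklyRegular b φ h) n le_rfl q z z.2
    (fun i hi => absurd i.2 (not_lt.2 hi)) hz
  exact ⟨⟨w, hw⟩, hdw⟩

end Groth.Agent.ProjDualR.KoszulExact
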