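import Groth.Prelude.Def_KoszulSh
import Groth.Agent.ProjDualR.HomAffine

/-!
Functoriality of Koszul complexes of cosections.
-/

universe u

open CategoryTheory CategoryTheory.Limits AlgebraicGeometry Opposite exteriorPower

noncomputable section

namespace Groth.Agent.ProjDualR.KoszulMap

variable {X : Scheme.{u}}

/-- The sections of a morphism as a linear map. -/
def appLin {E F : X.Modules} (f : E ⟶ F) (U : X.Opens) : Γ(E, U) →ₗ[Γ(X, U)] Γ(F, U) where
  toFun x := f.app U x
  map_add' x y := map_add _ x y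
  map_smul' r x := Scheme.Modules.Hom.app_smul f r x

@[simp] theorem appLin_apply {E F : X.Modules} (f : E ⟶ F) (U : X.Opens) (x : Γ(E, U)) :
    appLin f U x = f.app U x := rfl

/-- Additive maps agreeing on decomposables, with agreement stable under scalars, agree. -/
theorem ext_loc {E P : X.Modules} {p : ℕ} {U : X.affineOpens}
    (loc : Γ(P, U.1) ≃ₗ[Γ(X, U.1)] ↥(⋀[Γ(X, U.1)]^p Γ(E, U.1))) {G : Type*} [AddCommGroup G]
    {A B : Γ(P, U.1) →+ G} (hs : ∀ (r : Γ(X, U.1)) x, A x = B x → A (r • x) = B (r • x))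
    (h : ∀ e : Fin p → Γ(E, U.1), A (loc.symm (ιMulti _ p e)) = B (loc.symm (ιMulti _ p e))) (x : Γ(P, U.1)) :
    A x = B x := by
  obtain ⟨z, rfl⟩ := loc.symm.surjective x
  have hz : z ∈ Submodule.span Γ(X, U.1) (Set.range (ιMulti Γ(X, U.1) p (M := Γ(E, U.1)))) := by
    rw [exteriorPower.ιMulti_span]; exact Submodule.mem_top
  induction hz using Submodule.span_induction with
  | mem y hy => obtain ⟨e, rfl⟩ := hy; exact h e
  | zero => rw [map_zero, map_zero, map_zero]
  | add y z _ _ hy hz => rw [map_add, map_add, map_add, hy, hz]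
  | smul r y _ hy => rw [map_smul]; exact hs r _ hy

variable {E F : X.Modules} {s : E ⟶ Coh.structureModule X} {t : F ⟶ Coh.structureModule X}

theorem secForm_comp (f : E ⟶ F) (hf : f ≫ t = s) (U : X.Opens) (e : Γ(E, U)) :
    KoszSh.secForm t U (f.app U e) = KoszSh.secForm s U e := by
  rw [KoszSh.secForm_apply, KoszSh.secForm_apply, ← hf]
  rfl

theorem existsUnique_chainMap (f : E ⟶ F) (hf : f ≫ t = s) (C : KoszSh.Cx E s) (D : KoszSh.Cx F t) :
    ∃! φ : C.K ⟶ D.K, ∀ (p : ℕ) (U : X.affineOpens) (e : Fin p → Γ(E, U.1)),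
      (φ.f p).app U.1 ((C.loc p U).symm (exteriorPower.ιMulti _ p e)) =
        (D.loc p U).symm (exteriorPower.ιMulti _ p (fun j => f.app U.1 (e j))) := by
  have huniq : ∀ (p : ℕ) (N : X.Modules) (a b : C.K.X p ⟶ N),
      (∀ (U : X.affineOpens) (e : Fin p → Γ(E, U.1)),
        a.app U.1 ((C.loc p U).symm (ιMulti _ p e)) = b.app U.1 ((C.loc p U).symm (ιMulti _ p e))) → a = b := by
    intro p N a b h
    refine HomAffine.hom_ext a b fun U => AddCommGrpCat.ext fun x => ?_
    exact ext_loc (C.loc p U) (A := (a.app U.1).hom) (B := (b.app U.1).hom)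
      (fun r y hy => (Scheme.Modules.Hom.app_smul a r y).trans
        ((congrArg (r • ·) hy).trans (Scheme.Modules.Hom.app_smul b r y).symm)) (h U) x
  have hex : ∀ p, ∃ a : C.K.X p ⟶ D.K.X p, ∀ (U : X.affineOpens) (e : Fin p → Γ(E, U.1)),
      a.app U.1 ((C.loc p U).symm (ιMulti _ p e)) = (D.loc p U).symm (ιMulti _ p fun j => f.app U.1 (e j)) := by
    intro p
    let L : ∀ U : X.affineOpens, Γ(C.K.X p, U.1) →ₗ[Γ(X, U.1)] Γ(D.K.X p, U.1) := fun U =>
      (D.loc p U).symm.toLinearMap ∘ₗ exteriorPower.map p (appLin f U.1) ∘ₗ (C.loc p U).toLinearMap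
    have hL : ∀ (U : X.affineOpens) (e : Fin p → Γ(E, U.1)),
        L U ((C.loc p U).symm (ιMulti _ p e)) = (D.loc p U).symm (ιMulti _ p fun j => f.app U.1 (e j)) :=
      fun U e => by
        simp only [L, LinearMap.comp_apply, LinearEquiv.coe_coe, LinearEquiv.apply_symm_apply,
          exteriorPower.map_apply_ιMulti]
        rfl
    obtain ⟨a, ha⟩ := HomAffine.exists_of_affine L (fun U V h x => by
      refine ext_loc (C.loc p U) (A := ((D.K.X p).presheaf.map (homOfLE h).op).hom.comp (L U).toAddMonoidHom)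
        (B := (L V).toAddMonoidHom.comp ((C.K.X p).presheaf.map (homOfLE h).op).hom) ?_ ?_ x
      · intro r y hy
        show (D.K.X p).presheaf.map (homOfLE h).op (L U (r • y)) = L V ((C.K.X p).presheaf.map (homOfLE h).op (r • y))
        rw [map_smul, Scheme.Modules.map_smul, Scheme.Modules.map_smul, map_smul]
        exact congrArg _ hy
      · intro e
        show (D.K.X p).presheaf.map (homOfLE h).op (L U ((C.loc p U).symm (ιMulti _ p e))) =
          L V ((C.K.X p).presheaf.map (homOfLE h).op ((C.loc p U).symm (ιMulti _ p e)))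
        rw [hL]
        refine (D.loc_res p U V h _).trans ?_
        refine Eq.trans ?_ (congrArg (L V) (C.loc_res p U V h e)).symm
        rw [hL]
        refine congrArg (fun g => (D.loc p V).symm (ιMulti _ p g)) (funext fun j => ?_)
        exact (ConcreteCategory.congr_hom (f.mapPresheaf.naturality (homOfLE h).op) (e j)).symm)
    exact ⟨a, fun U e => (ha U _).trans (hL U e)⟩
  choose a ha using hex
  have hcomm : ∀ p, a (p + 1) ≫ D.K.d (p + 1) p = C.K.d (p + 1) p ≫ a p := by
    intro p
    refine huniq (p + 1) _ _ _ fun U e => ?_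
    show (D.K.d (p + 1) p).app U.1 ((a (p + 1)).app U.1 _) = (a p).app U.1 ((C.K.d (p + 1) p).app U.1 _)
    rw [ha, D.rule, C.rule]
    unfold KoszSh.dGen
    rw [map_sum, map_sum, map_sum]
    refine Finset.sum_congr rfl fun i _ => ?_
    rw [map_smul, map_smul, Scheme.Modules.Hom.app_smul, ha, secForm_comp f hf]
  refine ⟨{ f := a, comm' := fun i j hij => ?_ }, ha, fun ψ hψ => ?_⟩
  · obtain rfl : j + 1 = i := hij
    exact hcomm j
  · ext p : 1
    exact huniq p _ _ _ fun U e => (hψ p U e).trans (ha p U e).symm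

end Groth.Agent.ProjDualR.KoszulMap
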