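import Groth.Prelude.Def_KoszulSh
import Groth.Prelude.Def_FlatMod2
import Groth.Agent.ProjDualR.KoszulExact
import Groth.Agent.ProjDualR.KoszulMap
import Groth.Agent.QCoh.Localize
import Groth.Agent.QCoh.LocFree
import Groth.Agent.QCoh.Support
import Groth.Agent.RelTildeX.SheafCrit
import Mathlib.RingTheory.Regular.Flat
import Mathlib.RingTheory.Localization.Module

/-!
The Koszul complex of a regular section resolves.
-/

universe u

open CategoryTheory CategoryTheory.Limits AlgebraicGeometry TopologicalSpace Opposite exteriorPower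

noncomputable section

namespace Groth.Agent.ProjDualR.KoszulHom

open KoszulExact

theorem coe_dGen {R : Type*} [CommRing R] {M : Type*} [AddCommGroup M] [Module R M] (φ : M →ₗ[R] R) :
    ∀ (p : ℕ) (e : Fin (p + 1) → M), ((KoszSh.dGen φ p e : ↥(⋀[R]^p M)) : ExteriorAlgebra R M) =
      ct φ (ExteriorAlgebra.ιMulti R (p + 1) e)
  | 0, e => by
    simp [KoszSh.dGen]
    exact (Algebra.algebraMap_eq_smul_one _).symm
  | p + 1, e => by
    rw [ExteriorAlgebra.ιMulti_succ_apply, ct_ι_mul, ← coe_dGen φ p (Matrix.vecTail e)]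
    unfold KoszSh.dGen
    simp only [AddSubmonoidClass.coe_finsetSum, SetLike.val_smul, ιMulti_apply_coe]
    rw [Fin.sum_univ_succ, sub_eq_add_neg, Finset.mul_sum, ← Finset.sum_neg_distrib]
    congr 1
    · simp [Matrix.vecTail, Function.comp_def]
    · refine Finset.sum_congr rfl fun i _ => ?_
      rw [mul_smul_comm, ExteriorAlgebra.ιMulti_succ_apply, ← neg_smul]
      congr 1
      · simp [Matrix.vecTail, Fin.val_succ, pow_succ]
      · congr 1
        · congr 1
          funext j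
          simp [Matrix.vecTail, Function.comp_def, Fin.succ_succAbove_succ]

variable {X : Scheme.{u}} {E : X.Modules} {s : E ⟶ Coh.structureModule X}

/-- The differential of a Koszul complex, read in the exterior algebra. -/
theorem coe_loc_d (C : KoszSh.Cx E s) (p : ℕ) (U : X.affineOpens) (z : Γ(C.K.X (p + 1), U.1)) :
    ((C.loc p U ((C.K.d (p + 1) p).app U.1 z) : ↥(⋀[Γ(X, U.1)]^p Γ(E, U.1))) : ExteriorAlgebra _ _) =
      ct (KoszSh.secForm s U.1) ((C.loc (p + 1) U z : ↥(⋀[Γ(X, U.1)]^(p + 1) Γ(E, U.1))) : ExteriorAlgebra _ _) := by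
  let A : Γ(C.K.X (p + 1), U.1) →ₗ[Γ(X, U.1)] ExteriorAlgebra Γ(X, U.1) Γ(E, U.1) :=
    (Submodule.subtype _) ∘ₗ (C.loc p U).toLinearMap ∘ₗ KoszulMap.appLin (C.K.d (p + 1) p) U.1
  let B : Γ(C.K.X (p + 1), U.1) →ₗ[Γ(X, U.1)] ExteriorAlgebra Γ(X, U.1) Γ(E, U.1) :=
    ct (KoszSh.secForm s U.1) ∘ₗ (Submodule.subtype _) ∘ₗ (C.loc (p + 1) U).toLinearMap
  refine KoszulMap.ext_loc (C.loc (p + 1) U) (A := A.toAddMonoidHom) (B := B.toAddMonoidHom)
    (fun r x h => (map_smul A r x).trans ((congrArg (r • ·) h).trans (map_smul B r x).symm)) (fun e => ?_) z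
  show Subtype.val (C.loc p U ((C.K.d (p + 1) p).app U.1 ((C.loc (p + 1) U).symm (ιMulti _ (p + 1) e)))) =
    ct (KoszSh.secForm s U.1) (Subtype.val (C.loc (p + 1) U ((C.loc (p + 1) U).symm (ιMulti _ (p + 1) e))))
  rw [C.rule, LinearEquiv.apply_symm_apply, LinearEquiv.apply_symm_apply, ιMulti_apply_coe]
  exact coe_dGen _ p e

theorem secForm_map (s : E ⟶ Coh.structureModule X) {U V : X.Opens} (i : V ⟶ U) (e : Γ(E, U)) :
    KoszSh.secForm s V (E.presheaf.map i.op e) = X.presheaf.map i.op (KoszSh.secForm s U e) := by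
  rw [KoszSh.secForm_apply, KoszSh.secForm_apply]
  exact ConcreteCategory.congr_hom (s.mapPresheaf.naturality i.op) e

/-- A basis with weakly regular values restricts to basic opens. -/
theorem exists_basis_basicOpen (hE : Coh.IsQCoh E) {n : ℕ} {U : X.Opens} (hU : IsAffineOpen U)
    (b : Module.Basis (Fin n) Γ(X, U) Γ(E, U))
    (hb : RingTheory.Sequence.IsWeaklyRegular Γ(X, U) (List.ofFn fun k => KoszSh.secForm s U (b k)))
    (g : Γ(X, U)) :
    ∃ b' : Module.Basis (Fin n) Γ(X, X.basicOpen g) Γ(E, X.basicOpen g),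
      RingTheory.Sequence.IsWeaklyRegular Γ(X, X.basicOpen g)
        (List.ofFn fun k => KoszSh.secForm s (X.basicOpen g) (b' k)) := by
  let i : X.basicOpen g ⟶ U := homOfLE (X.basicOpen_le g)
  haveI := hU.isLocalization_basicOpen g
  letI : Module Γ(X, U) Γ(E, X.basicOpen g) := Module.compHom _ (X.presheaf.map i.op).hom
  have halg : ∀ r, algebraMap Γ(X, U) Γ(X, X.basicOpen g) r = X.presheaf.map i.op r := fun r => rfl
  haveI : IsScalarTower Γ(X, U) Γ(X, X.basicOpen g) Γ(E, X.basicOpen g) :=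
    IsScalarTower.of_algebraMap_smul fun r m => rfl
  let f : Γ(E, U) →ₗ[Γ(X, U)] Γ(E, X.basicOpen g) :=
    { toFun := fun e => E.presheaf.map i.op e
      map_add' := fun x y => map_add _ x y
      map_smul' := fun r x => Scheme.Modules.map_smul E i r x }
  haveI : IsLocalizedModule (Submonoid.powers g) f := by
    refine IsLocalizedModule.Away.mk_of_addCommGroup ?_ ?_ ?_
    · rw [Module.End.isUnit_iff]
      have hu : IsUnit (algebraMap Γ(X, U) Γ(X, X.basicOpen g) g) := IsLocalization.Away.algebraMap_isUnit g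
      constructor
      · intro x y h
        change g • x = g • y at h
        rw [← algebraMap_smul Γ(X, X.basicOpen g) g x, ← algebraMap_smul Γ(X, X.basicOpen g) g y] at h
        exact hu.smul_left_cancel.1 h
      · intro y
        refine ⟨((hu.unit⁻¹ : Γ(X, X.basicOpen g)ˣ) : Γ(X, X.basicOpen g)) • y, ?_⟩
        show g • ((((hu.unit⁻¹ : Γ(X, X.basicOpen g)ˣ) : Γ(X, X.basicOpen g)) • y : Γ(E, X.basicOpen g))) = y
        rw [← algebraMap_smul Γ(X, X.basicOpen g) g, smul_smul, IsUnit.mul_val_inv, one_smul]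
    · intro y
      obtain ⟨m, t, ht⟩ := QCoh.exists_pow_smul_eq_map hE hU g y
      refine ⟨m, t, ?_⟩
      rw [← algebraMap_smul Γ(X, X.basicOpen g) (g ^ m) y, map_pow]
      exact ht.symm
    · intro x hx
      exact QCoh.exists_pow_smul_eq_zero hE hU g x hx
  refine ⟨b.ofIsLocalizedModule Γ(X, X.basicOpen g) (Submonoid.powers g) f, ?_⟩
  haveI : Module.Flat Γ(X, U) Γ(X, X.basicOpen g) := IsLocalization.flat _ (Submonoid.powers g)
  have h := hb.of_flat (S := Γ(X, X.basicOpen g))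
  rw [List.map_ofFn] at h
  convert! h using 2
  funext k
  rw [Module.Basis.ofIsLocalizedModule_apply]
  exact secForm_map s i (b k)

theorem isZero_homology (hE : Coh.IsQCoh E) {n : ℕ}
    (hs : ∀ x : X, ∃ U : X.affineOpens, x ∈ U.1 ∧
      ∃ b : Module.Basis (Fin n) Γ(X, U.1) Γ(E, U.1),
        RingTheory.Sequence.IsWeaklyRegular Γ(X, U.1) (List.ofFn fun k => KoszSh.secForm s U.1 (b k)))
    (C : KoszSh.Cx E s) (q : ℕ) (hq : 1 ≤ q) : IsZero (C.K.homology q) := by
  obtain ⟨p, rfl⟩ : ∃ p, q = p + 1 := ⟨q - 1, by omega⟩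
  rw [← HomologicalComplex.exactAt_iff_isZero_homology,
    HomologicalComplex.exactAt_iff' C.K (p + 2) (p + 1) p (by simp) (by simp)]
  refine RelTildeX.exact_of_locally _ fun W (z : Γ(C.K.X (p + 1), W)) hz x hx => ?_
  obtain ⟨U, hxU, b, hb⟩ := hs x
  obtain ⟨g, hgW, hxg⟩ := U.2.exists_basicOpen_le (V := W) ⟨x, hx⟩ hxU
  obtain ⟨b', hb'⟩ := exists_basis_basicOpen hE U.2 b hb g
  let V : X.affineOpens := ⟨X.basicOpen g, U.2.basicOpen g⟩
  let z' : Γ(C.K.X (p + 1), V.1) := (C.K.X (p + 1)).presheaf.map (homOfLE hgW).op z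
  have hz' : (C.K.d (p + 1) p).app V.1 z' = 0 := by
    refine Eq.trans (ConcreteCategory.congr_hom ((C.K.d (p + 1) p).mapPresheaf.naturality (homOfLE hgW).op) z) ?_
    exact (congrArg (fun t => (C.K.X p).presheaf.map (homOfLE hgW).op t) hz).trans (map_zero _)
  have hct : ct (KoszSh.secForm s V.1) (Subtype.val (C.loc (p + 1) V z')) = 0 := by
    rw [← coe_loc_d, hz', map_zero]
    rfl
  obtain ⟨w, hw⟩ := exact_of_isWeaklyRegular b' (KoszSh.secForm s V.1) hb' p (C.loc (p + 1) V z') hct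
  refine ⟨V.1, hgW, hxg, (C.loc (p + 2) V).symm w, ?_⟩
  refine (C.loc (p + 1) V).injective (Subtype.ext ?_)
  show Subtype.val (C.loc (p + 1) V ((C.K.d (p + 2) (p + 1)).app V.1 ((C.loc (p + 2) V).symm w))) = _
  rw [coe_loc_d, LinearEquiv.apply_symm_apply, hw]
  rfl

end Groth.Agent.ProjDualR.KoszulHom
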