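import Groth.Agent.DualityLC.CMLocus
import Groth.Agent.Alg6.LocLoc
import Groth.Agent.Alg6.RkLoc
import Groth.Agent.Alg6.AssDepth
import Groth.Agent.S4729

/-!
Serre's conditions read off from the supports of the modules of Ext into a dualizing complex.
-/

set_option autoImplicit false
set_option linter.style.haveILetI false
set_option linter.unusedSectionVars false
set_option backward.isDefEq.respectTransparency false

universe u v

open CategoryTheory CategoryTheory.Limits Pretriangulated

attribute [local instance] HasDerivedCategory.standard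

noncomputable section

namespace Groth.Agent.ProjDualR.SkDual

variable {A : Type u} [CommRing A] [IsNoetherianRing A] {ω : Dual.D A}
  (M : Type u) [AddCommGroup M] [Module A M] [Module.Finite A M]

/-- The Serre inequality at one prime. -/
def SkPt (A : Type u) [CommRing A] (k : ℕ) (M : Type u) [AddCommGroup M] [Module A M] (p : PrimeSpectrum A) : Prop :=
  min (k : WithBot ℕ∞)
      (Module.supportDim (Localization.AtPrime p.asIdeal) (LocalizedModule p.asIdeal.primeCompl M)) ≤
    ((LocCoh.depth (Localization.AtPrime p.asIdeal) (LocalizedModule p.asIdeal.primeCompl M) : ℕ∞) : WithBot ℕ∞)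

omit [IsNoetherianRing A] [Module.Finite A M] in
theorem hasSk_iff_skPt (k : ℕ) : LocCoh.HasSk k A M ↔ ∀ p : PrimeSpectrum A, SkPt A k M p :=
  ⟨fun h p => h p.asIdeal, fun h p _ => h ⟨p, inferInstance⟩⟩

theorem skPt_iff {k : ℕ} {p : PrimeSpectrum A} {e d : ℕ}
    (he : LocCoh.depth (Localization.AtPrime p.asIdeal) (LocalizedModule p.asIdeal.primeCompl M) = e)
    (hd : Module.supportDim (Localization.AtPrime p.asIdeal) (LocalizedModule p.asIdeal.primeCompl M) = d) :
    SkPt A k M p ↔ k ≤ e ∨ d ≤ e := by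
  unfold SkPt
  rw [he, hd, min_le_iff]
  norm_cast

theorem skPt_of_notMem {k : ℕ} {p : PrimeSpectrum A} (hp : p ∉ Module.support A M) : SkPt A k M p := by
  haveI : Subsingleton (LocalizedModule p.asIdeal.primeCompl M) := Module.notMem_support_iff.1 hp
  refine (min_le_right _ _).trans ?_
  rw [Module.supportDim_eq_bot_of_subsingleton]
  exact bot_le

/-- The Serre inequality fails exactly where two Ext modules of too far degrees meet. -/
theorem skPt_iff_forall (hω : Dual.IsDualizing A ω) (k : ℕ) (hk : 1 ≤ k) (p : PrimeSpectrum A) :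
    SkPt A k M p ↔ ∀ i j : ℤ, j < i → p ∈ Module.support A (Dual.inD A M ⟶ ω⟦i⟧) →
      p ∈ Module.support A (Dual.inD A M ⟶ ω⟦j⟧) →
        (((k : ℤ) + i - j).toNat : WithBot ℕ∞) ≤
          Module.supportDim (Localization.AtPrime p.asIdeal) (LocalizedModule p.asIdeal.primeCompl M) := by
  by_cases hP : p ∈ Module.support A M
  · obtain ⟨n, hn, -, -, -⟩ := KFlatLib.exists_extDegree hω
    obtain ⟨e, d, he, hd⟩ := DualityLC.exists_depth_dim p M hP
    obtain ⟨hr, h1, h2⟩ := DualityLC.ext_range_at hω hn p M hP e d he hd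
    rw [skPt_iff M he hd, hd]
    constructor
    · intro h i j hij hi hj
      have hi' := hr _ (Module.mem_support_iff.1 hi)
      have hj' := hr _ (Module.mem_support_iff.1 hj)
      have : ((k : ℤ) + i - j).toNat ≤ d := by omega
      exact_mod_cast this
    · intro h
      by_contra hc
      have := h (n p - e) (n p - d) (by omega) (Module.mem_support_iff.2 h2) (Module.mem_support_iff.2 h1)
      have : ((k : ℤ) + (n p - e) - (n p - d)).toNat ≤ d := by exact_mod_cast this
      omega
  · exact iff_of_true (skPt_of_notMem M hP)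
      fun i j _ hi _ => absurd (KFlatLib.support_hom_subset M _ hi) hP

/-- Serre's condition by the supports of the Ext modules. -/
theorem hasSk_iff (hω : Dual.IsDualizing A ω) (k : ℕ) (hk : 1 ≤ k) :
    LocCoh.HasSk k A M ↔
      ∀ (i j : ℤ), j < i → ∀ p : PrimeSpectrum A,
        p ∈ Module.support A (Dual.inD A M ⟶ ω⟦i⟧) → p ∈ Module.support A (Dual.inD A M ⟶ ω⟦j⟧) →
          (((k : ℤ) + i - j).toNat : WithBot ℕ∞) ≤
            Module.supportDim (Localization.AtPrime p.asIdeal) (LocalizedModule p.asIdeal.primeCompl M) := by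
  simp only [hasSk_iff_skPt, skPt_iff_forall M hω k hk]
  exact ⟨fun h i j hij p => h p i j hij, fun h p i j hij => h i j hij p⟩

omit [IsNoetherianRing A] [Module.Finite A M] in
theorem hasSkAt_iff (k : ℕ) (p : PrimeSpectrum A) :
    EGA4.HasSkAt k A M p.asIdeal ↔ ∀ q ≤ p, SkPt A k M q := by
  unfold EGA4.HasSkAt
  erw [Alg6.hasSk_localization_iff]
  exact ⟨fun h q hq => h q.asIdeal ((Alg6.disjoint_primeCompl_iff _ _).2 hq),
    fun h q _ hq => h ⟨q, inferInstance⟩ ((Alg6.disjoint_primeCompl_iff _ _).1 hq)⟩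

/-- The locus of Serre's condition is open. -/
theorem isOpen_hasSkAt (hω : Dual.IsDualizing A ω) (k : ℕ) (hk : 1 ≤ k) :
    IsOpen {p : PrimeSpectrum A | EGA4.HasSkAt k A M p.asIdeal} := by
  obtain ⟨a, b, hab⟩ := hω.finite_injective_dimension
  obtain ⟨a', b', -, _, _⟩ := KFlatLib.exists_bounds_of_isDualizing hω
  let S : ℤ → Set (PrimeSpectrum A) := fun i => Module.support A (Dual.inD A M ⟶ ω⟦i⟧)
  have hS : ∀ i, IsClosed (S i) := fun i =>
    DualityLC.isClosed_support_finite (KFlatLib.finite_hom_module ω a' hω.finite_cohomology M i)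
  have hrange : ∀ (p : PrimeSpectrum A) (i : ℤ), p ∈ S i → a ≤ i ∧ i ≤ b := fun p i hi => by
    by_contra hc
    haveI := hab M i (by omega)
    simp only [S, Module.support_eq_empty, Set.mem_empty_iff_false] at hi
  choose J hJ using fun c : ℤ × ℤ =>
    (PrimeSpectrum.isClosed_iff_zeroLocus_ideal _).1 ((hS c.1).inter (hS c.2))
  let T : Set (PrimeSpectrum A) := {z | ∃ c ∈ (Set.Icc a b ×ˢ Set.Icc a b), c.2 < c.1 ∧
    z.asIdeal ∈ (J c).minimalPrimes ∧
    ¬ (((k : ℤ) + c.1 - c.2).toNat : WithBot ℕ∞) ≤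
      Module.supportDim (Localization.AtPrime z.asIdeal) (LocalizedModule z.asIdeal.primeCompl M)}
  have hT : T.Finite := by
    refine Set.Finite.subset ((((Set.finite_Icc a b).prod (Set.finite_Icc a b)).biUnion fun c _ =>
      Ideal.finite_minimalPrimes_of_isNoetherianRing A (J c)).preimage
        (f := PrimeSpectrum.asIdeal) (Set.injOn_of_injective fun _ _ => PrimeSpectrum.ext)) ?_
    rintro z ⟨c, hc, -, hz, -⟩
    exact Set.mem_biUnion hc hz
  have hset : {p : PrimeSpectrum A | EGA4.HasSkAt k A M p.asIdeal} =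
      (⋃ z ∈ T, PrimeSpectrum.zeroLocus (z.asIdeal : Set A))ᶜ := by
    ext p
    simp only [Set.mem_setOf_eq, Set.mem_compl_iff, Set.mem_iUnion, not_exists, hasSkAt_iff]
    constructor
    · rintro h z ⟨c, -, hc, hz, hbad⟩ hp
      have hzS : z ∈ S c.1 ∩ S c.2 := by
        rw [hJ c]
        exact hz.1.2
      exact hbad ((skPt_iff_forall M hω k hk z).1 (h z hp) c.1 c.2 hc hzS.1 hzS.2)
    · intro h q hq
      rw [skPt_iff_forall M hω k hk q]
      intro i j hij hi hj
      by_contra hbad
      have hqJ : J (i, j) ≤ q.asIdeal := by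
        have : q ∈ S i ∩ S j := ⟨hi, hj⟩
        rw [hJ (i, j)] at this
        exact this
      obtain ⟨z, hz, hzq⟩ := Ideal.exists_minimalPrimes_le hqJ
      haveI := hz.1.1
      refine h ⟨z, inferInstance⟩ ⟨(i, j), ⟨hrange q i hi, hrange q j hj⟩, hij, hz, fun hle => hbad ?_⟩
        (hzq.trans hq)
      exact hle.trans (S4729.result A M z q.asIdeal hzq)
  rw [hset, isOpen_compl_iff]
  exact hT.isClosed_biUnion fun z _ => PrimeSpectrum.isClosed_zeroLocus _

section Equidim

variable {n : PrimeSpectrum A → ℤ}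

/-- The dimension of the closure of a point is minus its degree. -/
theorem ringKrullDim_quotient_eq_neg (hcov : ∀ p q : PrimeSpectrum A, p ⋖ q → n q = n p + 1) (hmono : StrictMono n)
    (hmax : ∀ p : PrimeSpectrum A, p.asIdeal.IsMaximal → n p = 0) :
    ∀ p : PrimeSpectrum A, ∃ e : ℕ, ringKrullDim (A ⧸ p.asIdeal) = (e : WithBot ℕ∞) ∧ (e : ℤ) = -n p := by
  have hle : ∀ p : PrimeSpectrum A, n p ≤ 0 := fun p => by
    obtain ⟨m, hm, hpm⟩ := Ideal.exists_le_maximal p.asIdeal p.isPrime.ne_top
    have := hmono.monotone (show p ≤ ⟨m, hm.isPrime⟩ from hpm)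
    have := hmax ⟨m, hm.isPrime⟩ hm
    omega
  have hchain : ∀ (e : ℕ) (p : PrimeSpectrum A), (e : ℤ) = -n p →
      ∃ l : LTSeries (PrimeSpectrum A), l.head = p ∧ l.length = e := by
    intro e
    induction e with
    | zero => exact fun p _ => ⟨RelSeries.singleton _ p, rfl, rfl⟩
    | succ e ih =>
      intro p hp
      obtain ⟨m, hm, hpm⟩ := Ideal.exists_le_maximal p.asIdeal p.isPrime.ne_top
      have hne : p < ⟨m, hm.isPrime⟩ := lt_of_le_of_ne hpm fun h => by
        have := hmax p (by rw [h]; exact hm)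
        omega
      obtain ⟨z, ⟨q, hq, rfl⟩, hz⟩ := Int.exists_least_of_bdd (P := fun z => ∃ q, p < q ∧ n q = z)
        ⟨n p, fun z ⟨q, hq, h⟩ => h ▸ (hmono hq).le⟩ ⟨_, _, hne, rfl⟩
      have hpq : p ⋖ q := ⟨hq, fun r h1 h2 => absurd (hz _ ⟨r, h1, rfl⟩) (not_le.2 (hmono h2))⟩
      have := hcov p q hpq
      obtain ⟨l, hl, hlen⟩ := ih q (by omega)
      exact ⟨l.cons p (by rw [hl]; exact hq), RelSeries.head_cons _ _ _, by simp [hlen]⟩
  intro p
  obtain ⟨e, he⟩ := Int.eq_ofNat_of_zero_le (show 0 ≤ -n p by have := hle p; omega)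
  refine ⟨e, le_antisymm ?_ ?_, he.symm⟩
  · rw [ringKrullDim_quotient]
    refine iSup_le fun l => ?_
    have key : ∀ (i : ℕ) (hi : i < l.length + 1), n l.head.1 + i ≤ n (l ⟨i, hi⟩).1 := by
      intro i
      induction i with
      | zero => intro hi; simp [RelSeries.head]
      | succ i ih =>
        intro hi
        have h2 : n (l ⟨i, by omega⟩).1 < n (l ⟨i + 1, hi⟩).1 := hmono (l.step ⟨i, by omega⟩)
        have := ih (by omega)
        push_cast
        omega
    have h1 := key l.length (by omega)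
    have h2 := hmono.monotone (show p ≤ l.head.1 from l.head.2)
    have h3 := hle (l ⟨l.length, by omega⟩).1
    exact_mod_cast (show l.length ≤ e by omega)
  · obtain ⟨l, hl, hlen⟩ := hchain e p he.symm
    rw [ringKrullDim_quotient]
    have hmem : ∀ i, l i ∈ PrimeSpectrum.zeroLocus (p.asIdeal : Set A) := fun i => hl ▸ l.head_le i
    let l' : LTSeries (PrimeSpectrum.zeroLocus (p.asIdeal : Set A)) :=
      ⟨l.length, fun i => ⟨l i, hmem i⟩, fun i => l.step i⟩
    exact hlen ▸ Order.LTSeries.length_le_krullDim l'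

/-- Quotient dimensions are bounded by the support dimension. -/
theorem ringKrullDim_quotient_le_supportDim {E : Type v} [AddCommGroup E] [Module A E]
    {p : PrimeSpectrum A} (hp : p ∈ Module.support A E) :
    ringKrullDim (A ⧸ p.asIdeal) ≤ Module.supportDim A E := by
  rw [ringKrullDim_quotient]
  exact Order.krullDim_le_of_strictMono
    (fun q => (⟨q.1, Module.mem_support_mono (show p ≤ q.1 from q.2) hp⟩ : Module.support A E))
    fun _ _ h => h

/-- The support dimension is reached at the quotients by the primes of the support. -/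
theorem supportDim_le_of_forall {E : Type v} [AddCommGroup E] [Module A E] (N : WithBot ℕ∞)
    (h : ∀ p ∈ Module.support A E, ringKrullDim (A ⧸ p.asIdeal) ≤ N) :
    Module.supportDim A E ≤ N := by
  refine iSup_le fun l => le_trans ?_ (h l.head.1 l.head.2)
  rw [ringKrullDim_quotient]
  let l' : LTSeries (PrimeSpectrum.zeroLocus (l.head.1.asIdeal : Set A)) :=
    ⟨l.length, fun i => ⟨(l i).1, (l.head_le i : l.head.1 ≤ (l i).1)⟩, fun i => l.step i⟩
  exact Order.LTSeries.length_le_krullDim l'

/-- The dimension of a localized module is at most that of the module. -/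
theorem supportDim_localized_le (p : PrimeSpectrum A) :
    Module.supportDim (Localization.AtPrime p.asIdeal) (LocalizedModule p.asIdeal.primeCompl M) ≤
      Module.supportDim A M := by
  let R := Localization.AtPrime p.asIdeal
  have hsupp : ∀ y : Module.support R (LocalizedModule p.asIdeal.primeCompl M),
      PrimeSpectrum.comap (algebraMap A R) y.1 ∈ Module.support A M := by
    intro y
    refine (Set.ext_iff.1 Module.support_eq_zeroLocus _).2 fun a ha => ?_
    show algebraMap A R a ∈ y.1.asIdeal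
    refine Module.annihilator_le_of_mem_support y.2 (Module.mem_annihilator.2 fun z => ?_)
    induction z using LocalizedModule.induction_on with
    | h z s => rw [algebraMap_smul, LocalizedModule.smul'_mk, Module.mem_annihilator.1 ha z, LocalizedModule.zero_mk]
  exact Order.krullDim_le_of_strictMono (fun y => (⟨_, hsupp y⟩ : Module.support A M))
    fun y y' h => lt_of_le_of_ne (Ideal.comap_mono h.le) fun he =>
      h.ne (Subtype.ext (PrimeSpectrum.localization_comap_injective R p.asIdeal.primeCompl (congrArg Subtype.val he)))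

/-- For an equidimensional module the lowest degree is constant. -/
theorem extDegree_sub_dim (hω : Dual.IsDualizing A ω) (hn : KFlatLib.IsExtDegree ω n)
    (hmono : StrictMono n) (hmax : ∀ p : PrimeSpectrum A, p.asIdeal.IsMaximal → n p = 0)
    (hdim : ∀ p : PrimeSpectrum A, ∃ e : ℕ, ringKrullDim (A ⧸ p.asIdeal) = (e : WithBot ℕ∞) ∧ (e : ℤ) = -n p)
    (hM : EGA4.IsEquidimModule A M) (δ : ℕ) (hδ : Module.supportDim A M = δ)
    (p : PrimeSpectrum A) (hp : p ∈ Module.support A M) (d : ℕ)
    (hd : Module.supportDim (Localization.AtPrime p.asIdeal) (LocalizedModule p.asIdeal.primeCompl M) = d) :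
    n p - d = -(δ : ℤ) := by
  obtain ⟨e, d', he, hd'⟩ := DualityLC.exists_depth_dim p M hp
  obtain rfl : d' = d := by
    rw [hd] at hd'
    exact_mod_cast hd'.symm
  obtain ⟨hr, h1, -⟩ := DualityLC.ext_range_at hω hn p M hp e d' he hd'
  -- the lowest degree is at least `-δ`, seen at a closed point
  obtain ⟨m, hm, hpm⟩ := Ideal.exists_le_maximal p.asIdeal p.isPrime.ne_top
  let P : PrimeSpectrum A := ⟨m, hm.isPrime⟩
  have hPM : P ∈ Module.support A M := Module.mem_support_mono hpm hp
  obtain ⟨eP, dP, heP, hdP⟩ := DualityLC.exists_depth_dim P M hPM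
  obtain ⟨hrP, -, -⟩ := DualityLC.ext_range_at hω hn P M hPM eP dP heP hdP
  have hlow := (hrP _ (Module.mem_support_iff.1 (Module.mem_support_mono hpm (Module.mem_support_iff.2 h1)))).1
  have hdPδ : dP ≤ δ := by
    have := supportDim_localized_le M P
    rw [hdP, hδ] at this
    exact_mod_cast this
  have hP0 := hmax P hm
  -- the degree `-δ` is reached at a generic point below `p`
  have hann : Module.annihilator A M ≤ p.asIdeal := Module.annihilator_le_of_mem_support hp
  obtain ⟨q, hq, hqp⟩ := Ideal.exists_minimalPrimes_le hann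
  haveI := hq.1.1
  let Q : PrimeSpectrum A := ⟨q, inferInstance⟩
  have hQM : Q ∈ Module.support A M := by
    rw [Module.support_eq_zeroLocus]; exact hq.1.2
  obtain ⟨εQ, hεQ, hεQ'⟩ := hdim Q
  have hnQ : εQ = δ := by
    have := hM q hq
    rw [hδ, show ringKrullDim (A ⧸ q) = (εQ : WithBot ℕ∞) from hεQ] at this
    exact_mod_cast this
  obtain ⟨eQ, dQ, heQ, hdQ⟩ := DualityLC.exists_depth_dim Q M hQM
  obtain ⟨-, h1Q, -⟩ := DualityLC.ext_range_at hω hn Q M hQM eQ dQ heQ hdQ
  have hdQ0 : dQ = 0 := by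
    have := LC.supportDim_localized_minimalPrimes M hq
    change Module.supportDim (Localization.AtPrime q) (LocalizedModule q.primeCompl M) = _ at hdQ
    rw [hdQ] at this
    exact_mod_cast this
  have hup := (hr _ (Module.mem_support_iff.1 (Module.mem_support_mono hqp (Module.mem_support_iff.2 h1Q)))).1
  omega

/-- Serre's condition for an equidimensional module by the dimensions of the Ext modules. -/
theorem hasSk_iff_supportDim (hω : Dual.IsDualizing A ω) (hn : KFlatLib.IsExtDegree ω n)
    (hmono : StrictMono n) (hmax : ∀ p : PrimeSpectrum A, p.asIdeal.IsMaximal → n p = 0)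
    (hdim : ∀ p : PrimeSpectrum A, ∃ e : ℕ, ringKrullDim (A ⧸ p.asIdeal) = (e : WithBot ℕ∞) ∧ (e : ℤ) = -n p)
    (hM : EGA4.IsEquidimModule A M) (δ : ℕ) (hδ : Module.supportDim A M = δ) (k : ℕ) (hk : 1 ≤ k) :
    LocCoh.HasSk k A M ↔
      ∀ j : ℤ, j ≠ -(δ : ℤ) →
        (-j - (k : ℤ) < 0 → Subsingleton (Dual.inD A M ⟶ ω⟦j⟧)) ∧
        (0 ≤ -j - (k : ℤ) → Module.supportDim A (Dual.inD A M ⟶ ω⟦j⟧) ≤ ((-j - (k : ℤ)).toNat : WithBot ℕ∞)) := by
  rw [hasSk_iff_skPt]
  constructor
  · intro h j hj
    have hkey : ∀ p ∈ Module.support A (Dual.inD A M ⟶ ω⟦j⟧), (j : ℤ) + k ≤ n p ∧ n p ≤ 0 := by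
      intro p hp
      have hpM := KFlatLib.support_hom_subset M _ hp
      obtain ⟨e, d, he, hd⟩ := DualityLC.exists_depth_dim p M hpM
      obtain ⟨hr, -, -⟩ := DualityLC.ext_range_at hω hn p M hpM e d he hd
      have := extDegree_sub_dim M hω hn hmono hmax hdim hM δ hδ p hpM d hd
      have := hr _ (Module.mem_support_iff.1 hp)
      have := (skPt_iff M he hd).1 (h p)
      obtain ⟨ε, -, hε⟩ := hdim p
      omega
    refine ⟨fun hneg => ?_, fun hpos => supportDim_le_of_forall _ fun p hp => ?_⟩
    · rw [← Module.support_eq_empty_iff (R := A)]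
      exact Set.eq_empty_of_forall_notMem fun p hp => by have := hkey p hp; omega
    · obtain ⟨ε, hε, hε'⟩ := hdim p
      rw [hε]
      have := hkey p hp
      exact_mod_cast (show ε ≤ (-j - (k : ℤ)).toNat by omega)
  · intro h p
    by_cases hpM : p ∈ Module.support A M
    · obtain ⟨e, d, he, hd⟩ := DualityLC.exists_depth_dim p M hpM
      obtain ⟨hr, -, h2⟩ := DualityLC.ext_range_at hω hn p M hpM e d he hd
      have hdeg := extDegree_sub_dim M hω hn hmono hmax hdim hM δ hδ p hpM d hd
      rw [skPt_iff M he hd]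
      by_contra hc
      obtain ⟨hsub, hdimle⟩ := h (n p - e) (by omega)
      by_cases hneg : -(n p - (e : ℤ)) - (k : ℤ) < 0
      · haveI := hsub hneg
        exact absurd (Module.mem_support_iff.2 h2) (by rw [Module.support_eq_empty]; exact Set.notMem_empty _)
      · obtain ⟨ε, hε, hε'⟩ := hdim p
        have := (ringKrullDim_quotient_le_supportDim (Module.mem_support_iff.2 h2)).trans (hdimle (by omega))
        rw [hε] at this
        have : ε ≤ (-(n p - (e : ℤ)) - (k : ℤ)).toNat := by exact_mod_cast this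
        omega
    · exact skPt_of_notMem M hpM

end Equidim

/-- The normalized degree function of a complex normalized at all closed points. -/
theorem exists_degree (hω : Dual.IsDualizing A ω)
    (hnorm : ∀ (m : Ideal A) (_ : m.IsMaximal) (i : ℤ), i ≠ 0 → Subsingleton (Dual.inD A (A ⧸ m) ⟶ ω⟦i⟧)) :
    ∃ n : PrimeSpectrum A → ℤ, KFlatLib.IsExtDegree ω n ∧ StrictMono n ∧
      (∀ p : PrimeSpectrum A, p.asIdeal.IsMaximal → n p = 0) ∧
      ∀ p : PrimeSpectrum A, ∃ e : ℕ, ringKrullDim (A ⧸ p.asIdeal) = (e : WithBot ℕ∞) ∧ (e : ℤ) = -n p := by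
  obtain ⟨n, hn, hcov, hmono, -⟩ := KFlatLib.exists_extDegree hω
  have hmax : ∀ p : PrimeSpectrum A, p.asIdeal.IsMaximal → n p = 0 := fun p hp => by
    by_contra hne
    haveI := (hn p _).2 rfl
    haveI := hnorm p.asIdeal hp _ hne
    exact not_subsingleton _ (LocalizedModule.subsingleton_iff.2 fun f => ⟨1, one_mem _, Subsingleton.elim _ _⟩ :
      Subsingleton (LocalizedModule p.asIdeal.primeCompl (Dual.inD A (A ⧸ p.asIdeal) ⟶ ω⟦n p⟧)))
  exact ⟨n, hn, hmono, hmax, ringKrullDim_quotient_eq_neg hcov hmono hmax⟩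

end Groth.Agent.ProjDualR.SkDual

end
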